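import Groth.Agent.RadPtLib.Branch
import Groth.Agent.RadPtLib.Basic
import Groth.Agent.AlgSpDec.BiratSp
import Groth.Agent.UnibEtale.Basic
import Groth.Prelude.Def_EGA4Misc
import Mathlib.AlgebraicGeometry.Morphisms.Integral

/-!
# Geometrically unibranch points and integral birational morphisms
-/

set_option autoImplicit false
set_option maxHeartbeats 800000
set_option synthInstance.maxHeartbeats 200000
set_option backward.isDefEq.respectTransparency false
set_option backward.isDefEq.respectTransparency.types false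

universe u

open CategoryTheory AlgebraicGeometry IsLocalRing Topology

namespace Groth.Agent.RadPtLib

theorem mem_genericPoints_iff_minimal {X : Scheme.{u}} {W : X.Opens} (hW : IsAffineOpen W) (z : Spec Γ(X, W)) :
    hW.fromSpec z ∈ genericPoints X ↔ z.asIdeal ∈ minimalPrimes Γ(X, W) := by
  rw [← Groth.Agent.AlgSpDec.BiratSp.mem_genericPoints_iff hW.fromSpec.isOpenEmbedding (a := z)]
  show closure ({z} : Set (PrimeSpectrum Γ(X, W))) ∈ irreducibleComponents _ ↔ _
  rw [← PrimeSpectrum.vanishingIdeal_mem_minimalPrimes, PrimeSpectrum.vanishingIdeal_singleton]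

theorem mem_minimalPrimes_localization_iff {R A : Type u} [CommRing R] [CommRing A] [Algebra R A] (M : Submonoid R)
    [IsLocalization M A] (P : Ideal A) [P.IsPrime] :
    P ∈ minimalPrimes A ↔ P.comap (algebraMap R A) ∈ minimalPrimes R := by
  have hdis := ((IsLocalization.isPrime_iff_isPrime_disjoint M A P).1 ‹_›).2
  constructor
  · intro hP
    refine ⟨⟨Ideal.IsPrime.comap _, bot_le⟩, fun q ⟨hq, _⟩ hle => ?_⟩
    have hdq : Disjoint (M : Set R) (q : Set R) := Set.disjoint_of_subset_right hle hdis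
    have h := hP.2 ⟨IsLocalization.isPrime_of_isPrime_disjoint M A q hq hdq, bot_le⟩ (Ideal.map_le_iff_le_comap.2 hle)
    exact (Ideal.comap_mono h).trans (IsLocalization.comap_map_of_isPrime_disjoint M A hq hdq).le
  · intro hP
    refine ⟨⟨‹_›, bot_le⟩, fun Q ⟨hQ, _⟩ hle => ?_⟩
    haveI := hQ
    rw [← IsLocalization.map_comap M A P, ← IsLocalization.map_comap M A Q]
    exact Ideal.map_mono (hP.2 ⟨Ideal.IsPrime.comap _, bot_le⟩ (Ideal.comap_mono hle))

variable {X Y : Scheme.{u}} (f : X ⟶ Y) [IsIntegralHom f] (hf : RadPt.IsBirational f)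

include hf

theorem isGeomUnibranch_iff_radicial (y : Y) :
    CAlg2.IsGeomUnibranch (Y.presheaf.stalk y) ↔
      (RadPt.IsRadicialAt f y ∧ ∀ x : X, f x = y → CAlg2.IsGeomUnibranch (X.presheaf.stalk x)) := by
  obtain ⟨W, hW, hyW, -⟩ := exists_isAffineOpen_mem_and_subset (X := Y) (x := y) (U := ⊤) trivial
  set V := f ⁻¹ᵁ W
  have hV : IsAffineOpen V := hW.preimage f
  let φ : Γ(Y, W) →+* Γ(X, V) := (f.app W).hom
  letI : Algebra Γ(Y, W) Γ(X, V) := φ.toAlgebra
  haveI : Algebra.IsIntegral Γ(Y, W) Γ(X, V) := ⟨f.isIntegral_app W hW⟩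
  let p := (hW.primeIdealOf ⟨y, hyW⟩).asIdeal
  letI := TopCat.Presheaf.algebra_section_stalk Y.presheaf (⟨y, hyW⟩ : W)
  haveI : IsLocalization.AtPrime (Y.presheaf.stalk y) p := hW.isLocalization_stalk ⟨y, hyW⟩
  let A := Y.presheaf.stalk y
  let M := Algebra.algebraMapSubmonoid Γ(X, V) p.primeCompl
  let B := Localization M
  let g : A →+* B := IsLocalization.lift (M := p.primeCompl) (g := (algebraMap Γ(X, V) B).comp φ)
    fun s => IsLocalization.map_units B (⟨φ s, s, s.2, rfl⟩ : M)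
  letI : Algebra A B := g.toAlgebra
  have hg : ∀ r, algebraMap A B (algebraMap Γ(Y, W) A r) = algebraMap Γ(X, V) B (φ r) := fun r =>
    IsLocalization.lift_eq _ r
  haveI : Algebra.IsIntegral A B := ⟨fun b => by
    obtain ⟨t, ⟨_, s, hs, rfl⟩, rfl⟩ := IsLocalization.exists_mk'_eq M b
    have ht : IsIntegral A (algebraMap Γ(X, V) B t) := by
      obtain ⟨P, hP, he⟩ := Algebra.IsIntegral.isIntegral (R := Γ(Y, W)) t
      refine ⟨P.map (algebraMap Γ(Y, W) A), hP.map _, ?_⟩
      rw [Polynomial.eval₂_map, show (algebraMap A B).comp (algebraMap Γ(Y, W) A) =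
        (algebraMap Γ(X, V) B).comp (algebraMap Γ(Y, W) Γ(X, V)) from RingHom.ext hg, ← Polynomial.hom_eval₂, he, map_zero]
    obtain ⟨v, hv⟩ := (IsLocalization.map_units A (⟨s, hs⟩ : p.primeCompl))
    have : IsLocalization.mk' B t (⟨_, s, hs, rfl⟩ : M) = algebraMap Γ(X, V) B t * algebraMap A B (↑v⁻¹ : A) := by
      rw [IsLocalization.mk'_eq_iff_eq_mul]
      show _ = _ * algebraMap Γ(X, V) B (φ s)
      have hunit : algebraMap A B (↑v⁻¹ : A) * algebraMap Γ(X, V) B (φ s) = 1 := by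
        rw [← hg, ← map_mul]
        have : (↑v⁻¹ : A) * algebraMap Γ(Y, W) A s = 1 := by
          rw [show algebraMap Γ(Y, W) A s = (v : A) from hv.symm]
          exact v.inv_mul
        rw [this, map_one]
      rw [mul_assoc, hunit, mul_one]
    rw [this]
    exact ht.mul isIntegral_algebraMap⟩
  -- points
  have hφ : ∀ (z : X) (hz : z ∈ V), (hV.primeIdealOf ⟨z, hz⟩).asIdeal.comap φ = (hW.primeIdealOf ⟨f z, hz⟩).asIdeal := by
    intro z hz
    letI := TopCat.Presheaf.algebra_section_stalk X.presheaf (⟨z, hz⟩ : V)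
    haveI := hV.isLocalization_stalk ⟨z, hz⟩
    letI := TopCat.Presheaf.algebra_section_stalk Y.presheaf (⟨f z, hz⟩ : W)
    haveI := hW.isLocalization_stalk ⟨f z, hz⟩
    ext r
    rw [Ideal.mem_comap, ← IsLocalization.AtPrime.to_map_mem_maximal_iff (X.presheaf.stalk z) (hV.primeIdealOf ⟨z, hz⟩).asIdeal,
      ← IsLocalization.AtPrime.to_map_mem_maximal_iff (Y.presheaf.stalk (f z)) (hW.primeIdealOf ⟨f z, hz⟩).asIdeal]
    have h : X.presheaf.germ V z hz (f.app W r) = f.stalkMap z (Y.presheaf.germ W (f z) hz r) :=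
      (Scheme.Hom.germ_stalkMap_apply f W z hz r).symm
    show X.presheaf.germ V z hz (f.app W r) ∈ _ ↔ Y.presheaf.germ W (f z) hz r ∈ _
    rw [h, mem_maximalIdeal, mem_maximalIdeal, mem_nonunits_iff, mem_nonunits_iff]
    exact not_congr ⟨fun hu => isUnit_of_map_unit (f.stalkMap z).hom _ hu, fun hu => hu.map (f.stalkMap z).hom⟩
  have hpt : ∀ P : Ideal Γ(X, V), P.IsPrime → ∃ (z : X) (hz : z ∈ V), (hV.primeIdealOf ⟨z, hz⟩).asIdeal = P := by
    intro P hP
    let q : Spec Γ(X, V) := ⟨P, hP⟩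
    have hz : hV.fromSpec q ∈ V := by
      have : hV.fromSpec q ∈ Set.range hV.fromSpec := ⟨q, rfl⟩
      rwa [hV.range_fromSpec] at this
    refine ⟨hV.fromSpec q, hz, ?_⟩
    have := hV.fromSpec.isOpenEmbedding.injective (hV.fromSpec_primeIdealOf ⟨_, hz⟩)
    rw [this]
  have hptW : ∀ P : Ideal Γ(Y, W), P.IsPrime → ∃ (z : Y) (hz : z ∈ W), (hW.primeIdealOf ⟨z, hz⟩).asIdeal = P := by
    intro P hP
    let q : Spec Γ(Y, W) := ⟨P, hP⟩
    have hz : hW.fromSpec q ∈ W := by
      have : hW.fromSpec q ∈ Set.range hW.fromSpec := ⟨q, rfl⟩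
      rwa [hW.range_fromSpec] at this
    refine ⟨hW.fromSpec q, hz, ?_⟩
    have := hW.fromSpec.isOpenEmbedding.injective (hW.fromSpec_primeIdealOf ⟨_, hz⟩)
    rw [this]
  have hgenX : ∀ (z : X) (hz : z ∈ V), z ∈ genericPoints X ↔ (hV.primeIdealOf ⟨z, hz⟩).asIdeal ∈ minimalPrimes Γ(X, V) :=
    fun z hz => by rw [← mem_genericPoints_iff_minimal hV, hV.fromSpec_primeIdealOf]
  have hgenY : ∀ (z : Y) (hz : z ∈ W), z ∈ genericPoints Y ↔ (hW.primeIdealOf ⟨z, hz⟩).asIdeal ∈ minimalPrimes Γ(Y, W) :=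
    fun z hz => by rw [← mem_genericPoints_iff_minimal hW, hW.fromSpec_primeIdealOf]
  have hinjW : ∀ (z z' : Y) (hz : z ∈ W) (hz' : z' ∈ W),
      (hW.primeIdealOf ⟨z, hz⟩).asIdeal = (hW.primeIdealOf ⟨z', hz'⟩).asIdeal → z = z' := fun z z' hz hz' e => by
    have h1 := hW.fromSpec_primeIdealOf ⟨z, hz⟩
    rw [PrimeSpectrum.ext e, hW.fromSpec_primeIdealOf] at h1
    exact h1.symm
  have hinjV : ∀ (z z' : X) (hz : z ∈ V) (hz' : z' ∈ V),
      (hV.primeIdealOf ⟨z, hz⟩).asIdeal = (hV.primeIdealOf ⟨z', hz'⟩).asIdeal → z = z' := fun z z' hz hz' e => by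
    have h1 := hV.fromSpec_primeIdealOf ⟨z, hz⟩
    rw [PrimeSpectrum.ext e, hV.fromSpec_primeIdealOf] at h1
    exact h1.symm
  have hAB : ∀ P : Ideal B, (P.comap (algebraMap A B)).comap (algebraMap Γ(Y, W) A) =
      (P.comap (algebraMap Γ(X, V) B)).comap φ := fun P => by
    rw [Ideal.comap_comap, Ideal.comap_comap]
    exact congrArg (Ideal.comap · P) (RingHom.ext hg)
  -- the birationality on the chart
  have hmaps : ∀ P ∈ minimalPrimes B, P.comap (algebraMap A B) ∈ minimalPrimes A := fun P hP => by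
    haveI := hP.1.1
    obtain ⟨z, hz, hzP⟩ := hpt (P.comap (algebraMap Γ(X, V) B)) inferInstance
    have h1 := hf.1.mapsTo ((hgenX z hz).2 (hzP.symm ▸ (mem_minimalPrimes_localization_iff M P).1 hP))
    rw [mem_minimalPrimes_localization_iff p.primeCompl, hAB, ← hzP, hφ z hz]
    exact (hgenY (f z) hz).1 h1
  have hinj : Set.InjOn (Ideal.comap (algebraMap A B)) (minimalPrimes B) := fun P hP Q hQ e => by
    haveI := hP.1.1
    haveI := hQ.1.1
    obtain ⟨z, hz, hzP⟩ := hpt (P.comap (algebraMap Γ(X, V) B)) inferInstance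
    obtain ⟨z', hz', hzQ⟩ := hpt (Q.comap (algebraMap Γ(X, V) B)) inferInstance
    have he : (hW.primeIdealOf ⟨f z, hz⟩).asIdeal = (hW.primeIdealOf ⟨f z', hz'⟩).asIdeal := by
      rw [← hφ z hz, ← hφ z' hz', hzP, hzQ, ← hAB, ← hAB]
      exact congrArg (Ideal.comap _) e
    have hzz := hf.1.injOn ((hgenX z hz).2 (hzP.symm ▸ (mem_minimalPrimes_localization_iff M P).1 hP))
      ((hgenX z' hz').2 (hzQ.symm ▸ (mem_minimalPrimes_localization_iff M Q).1 hQ)) (hinjW _ _ hz hz' he)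
    subst hzz
    rw [← IsLocalization.map_comap M B P, ← IsLocalization.map_comap M B Q, Ideal.under_def, Ideal.under_def, ← hzP, ← hzQ]
  have hsurj : ∀ q ∈ minimalPrimes A, ∃ P : Ideal B, P.IsPrime ∧ P.comap (algebraMap A B) = q := fun q hq => by
    haveI := hq.1.1
    obtain ⟨η, hη, hηq⟩ := hptW (q.comap (algebraMap Γ(Y, W) A)) inferInstance
    obtain ⟨z, hzg, rfl⟩ := hf.1.surjOn ((hgenY η hη).2 (hηq.symm ▸ (mem_minimalPrimes_localization_iff p.primeCompl q).1 hq))
    have hdis : Disjoint (M : Set Γ(X, V)) ((hV.primeIdealOf ⟨z, hη⟩).asIdeal : Set Γ(X, V)) := by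
      refine Set.disjoint_left.2 ?_
      rintro _ ⟨s, hs, rfl⟩ hsP
      have : s ∈ (hW.primeIdealOf ⟨f z, hη⟩).asIdeal := (hφ z hη).le hsP
      rw [hηq] at this
      exact hq.1.1.ne_top (Ideal.eq_top_of_isUnit_mem _ this (IsLocalization.map_units A (⟨s, hs⟩ : p.primeCompl)))
    refine ⟨(hV.primeIdealOf ⟨z, hη⟩).asIdeal.map (algebraMap Γ(X, V) B),
      IsLocalization.isPrime_of_isPrime_disjoint M B _ inferInstance hdis, ?_⟩
    rw [← IsLocalization.map_comap p.primeCompl A ((Ideal.map _ _).comap (algebraMap A B)), Ideal.under_def, hAB,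
      show ((hV.primeIdealOf ⟨z, hη⟩).asIdeal.map (algebraMap Γ(X, V) B)).comap (algebraMap Γ(X, V) B) = _ from
        IsLocalization.comap_map_of_isPrime_disjoint M B inferInstance hdis, hφ z hη, hηq]
    exact IsLocalization.map_comap p.primeCompl A q
  have hres : ∀ P ∈ minimalPrimes B, ∀ b : B, ∃ a a₀ : A,
      algebraMap A B a ∉ P ∧ algebraMap A B a * b - algebraMap A B a₀ ∈ P := fun P hP b => by
    haveI := hP.1.1
    obtain ⟨z, hz, hzP⟩ := hpt (P.comap (algebraMap Γ(X, V) B)) inferInstance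
    have hzg := (hgenX z hz).2 (hzP.symm ▸ (mem_minimalPrimes_localization_iff M P).1 hP)
    obtain ⟨t, ⟨_, s, hs, rfl⟩, rfl⟩ := IsLocalization.exists_mk'_eq M b
    letI := TopCat.Presheaf.algebra_section_stalk X.presheaf (⟨z, hz⟩ : V)
    haveI := hV.isLocalization_stalk ⟨z, hz⟩
    letI := TopCat.Presheaf.algebra_section_stalk Y.presheaf (⟨f z, hz⟩ : W)
    haveI := hW.isLocalization_stalk ⟨f z, hz⟩
    obtain ⟨w, hw⟩ := ((hf.2 _ (hf.1.mapsTo hzg)).2 z rfl).2 (X.residue z (X.presheaf.germ V z hz t))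
    obtain ⟨w, rfl⟩ := Y.residue_surjective (f z) w
    obtain ⟨⟨a₀, a⟩, haw⟩ := IsLocalization.surj (hW.primeIdealOf ⟨f z, hz⟩).asIdeal.primeCompl w
    have hgerm : ∀ r, f.stalkMap z (algebraMap Γ(Y, W) (Y.presheaf.stalk (f z)) r) =
        algebraMap Γ(X, V) (X.presheaf.stalk z) (φ r) := fun r => Scheme.Hom.germ_stalkMap_apply f W z hz r
    have hmem : φ a * t - φ a₀ ∈ P.comap (algebraMap Γ(X, V) B) := by
      rw [← hzP, ← IsLocalization.AtPrime.to_map_mem_maximal_iff (X.presheaf.stalk z) (hV.primeIdealOf ⟨z, hz⟩).asIdeal,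
        ← residue_eq_zero_iff, map_sub, map_sub, map_mul, map_mul, ← hgerm, ← hgerm, sub_eq_zero]
      have hw' : residue _ (f.stalkMap z w) = residue _ (algebraMap Γ(X, V) (X.presheaf.stalk z) t) := hw
      rw [← hw', ← map_mul, ← map_mul, mul_comm]
      exact congrArg (fun u => residue _ (f.stalkMap z u)) haw
    refine ⟨algebraMap Γ(Y, W) A (s * a), algebraMap Γ(Y, W) A a₀, ?_, ?_⟩
    · rw [hg, map_mul, map_mul]
      intro hm
      rcases hP.1.1.mem_or_mem hm with hm | hm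
      · exact hP.1.1.ne_top (Ideal.eq_top_of_isUnit_mem _ hm (IsLocalization.map_units B (⟨φ s, s, hs, rfl⟩ : M)))
      · exact a.2 ((hφ z hz).le (show φ a ∈ (hV.primeIdealOf ⟨z, hz⟩).asIdeal from hzP.ge hm))
    · rw [hg, hg, map_mul, map_mul, mul_right_comm]
      have h := IsLocalization.mk'_spec' B t (⟨φ s, s, hs, rfl⟩ : M)
      have h' : ∀ u : B, algebraMap Γ(X, V) B (φ s) * IsLocalization.mk' B t (⟨φ s, s, hs, rfl⟩ : M) * u - algebraMap Γ(X, V) B (φ a₀) ∈ P ↔
          algebraMap Γ(X, V) B t * u - algebraMap Γ(X, V) B (φ a₀) ∈ P := fun u => by rw [h]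
      refine (h' _).2 ?_
      rw [mul_comm, ← map_mul, ← map_sub]
      exact hmem
  -- maximal ideals of `B` and points over `y`
  have hmaxpt : ∀ Q : Ideal B, Q.IsMaximal → ∃ x : X, f x = y ∧ ∃ hx : x ∈ V,
      (hV.primeIdealOf ⟨x, hx⟩).asIdeal = Q.comap (algebraMap Γ(X, V) B) := fun Q hQ => by
    obtain ⟨x, hx, hxQ⟩ := hpt (Q.comap (algebraMap Γ(X, V) B)) inferInstance
    refine ⟨x, hinjW _ _ hx hyW ?_, hx, hxQ⟩
    rw [← hφ x hx, hxQ, ← hAB, IsLocalRing.eq_maximalIdeal (Ideal.isMaximal_comap_of_isIntegral_of_isMaximal Q)]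
    exact IsLocalization.AtPrime.comap_maximalIdeal A p
  have hptmax : ∀ (x : X) (hx : x ∈ V), f x = y → ∃ Q : Ideal B, Q.IsMaximal ∧
      (hV.primeIdealOf ⟨x, hx⟩).asIdeal = Q.comap (algebraMap Γ(X, V) B) := fun x hx hxy => by
    have hdis : Disjoint (M : Set Γ(X, V)) ((hV.primeIdealOf ⟨x, hx⟩).asIdeal : Set Γ(X, V)) := by
      refine Set.disjoint_left.2 ?_
      rintro _ ⟨s, hs, rfl⟩ hsP
      have h1 : s ∈ (hW.primeIdealOf ⟨f x, hx⟩).asIdeal := (hφ x hx).le hsP
      rw [show (hW.primeIdealOf ⟨f x, hx⟩) = hW.primeIdealOf ⟨y, hyW⟩ from congrArg hW.primeIdealOf (Subtype.ext hxy)] at h1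
      exact hs h1
    have hc : ((hV.primeIdealOf ⟨x, hx⟩).asIdeal.map (algebraMap Γ(X, V) B)).comap (algebraMap Γ(X, V) B) = _ :=
      IsLocalization.comap_map_of_isPrime_disjoint M B (hV.primeIdealOf ⟨x, hx⟩).isPrime hdis
    haveI : ((hV.primeIdealOf ⟨x, hx⟩).asIdeal.map (algebraMap Γ(X, V) B)).IsPrime :=
      IsLocalization.isPrime_of_isPrime_disjoint M B _ inferInstance hdis
    refine ⟨_, Ideal.isMaximal_of_isIntegral_of_isMaximal_comap (R := A) _ ?_, hc.symm⟩
    rw [← IsLocalization.map_comap p.primeCompl A (Ideal.comap (algebraMap A B) _), Ideal.under_def, hAB, hc, hφ x hx,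
      show (hW.primeIdealOf ⟨f x, hx⟩) = hW.primeIdealOf ⟨y, hyW⟩ from congrArg hW.primeIdealOf (Subtype.ext hxy),
      IsLocalization.AtPrime.map_eq_maximalIdeal p A]
    infer_instance
  have hQeq : ∀ Q Q' : Ideal B, Q.comap (algebraMap Γ(X, V) B) = Q'.comap (algebraMap Γ(X, V) B) → Q = Q' :=
    fun Q Q' e => by rw [← IsLocalization.map_comap M B Q, ← IsLocalization.map_comap M B Q']; exact congrArg _ e
  have hloc : ∀ (Q : Ideal B) [Q.IsPrime] (x : X) (hx : x ∈ V),
      (hV.primeIdealOf ⟨x, hx⟩).asIdeal = Q.comap (algebraMap Γ(X, V) B) →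
      Nonempty (Localization.AtPrime Q ≃+* X.presheaf.stalk x) := fun Q _ x hx hxQ => by
    letI := TopCat.Presheaf.algebra_section_stalk X.presheaf (⟨x, hx⟩ : V)
    haveI := hV.isLocalization_stalk ⟨x, hx⟩
    haveI := IsLocalization.isLocalization_isLocalization_atPrime_isLocalization M (Localization.AtPrime Q) Q
    haveI : IsLocalization (hV.primeIdealOf ⟨x, hx⟩).asIdeal.primeCompl (Localization.AtPrime Q) := by
      convert (inferInstance : IsLocalization.AtPrime (Localization.AtPrime Q) (Q.comap (algebraMap Γ(X, V) B)))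
    exact ⟨(IsLocalization.algEquiv (hV.primeIdealOf ⟨x, hx⟩).asIdeal.primeCompl _ _).toRingEquiv⟩
  have hradiff : ∀ (Q : Ideal B), Q.IsMaximal → ∀ (x : X) (hx : x ∈ V), f x = y →
      (hV.primeIdealOf ⟨x, hx⟩).asIdeal = Q.comap (algebraMap Γ(X, V) B) →
      (RadAlong A B Q ↔ (f.residueFieldMap x).hom.IsPurelyInseparable) := fun Q hQ x hx hxy hxQ => by
    subst hxy
    letI := TopCat.Presheaf.algebra_section_stalk X.presheaf (⟨x, hx⟩ : V)
    haveI := hV.isLocalization_stalk ⟨x, hx⟩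
    have hu : ∀ s : M, IsUnit (algebraMap Γ(X, V) (X.presheaf.stalk x) s) := fun s => by
      by_contra hns
      have h1 : (s : Γ(X, V)) ∈ (hV.primeIdealOf ⟨x, hx⟩).asIdeal :=
        (IsLocalization.AtPrime.to_map_mem_maximal_iff (X.presheaf.stalk x) _ _).1 hns
      rw [hxQ] at h1
      exact hQ.ne_top (Ideal.eq_top_of_isUnit_mem _ h1 (IsLocalization.map_units B s))
    let β : B →+* X.presheaf.stalk x := IsLocalization.lift (M := M) hu
    let γ : B →+* ResidueField (X.presheaf.stalk x) := (residue (X.presheaf.stalk x)).comp β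
    have hβA : β.comp (algebraMap A B) = (f.stalkMap x).hom := IsLocalization.ringHom_ext p.primeCompl (RingHom.ext fun r => by
      show β (algebraMap A B (algebraMap Γ(Y, W) A r)) = f.stalkMap x (Y.presheaf.germ W (f x) hyW r)
      rw [hg]
      exact (IsLocalization.lift_eq hu (φ r)).trans (Scheme.Hom.germ_stalkMap_apply f W x hx r).symm)
    have hγker : RingHom.ker γ = Q := by
      haveI : (RingHom.ker γ).IsPrime := RingHom.ker_isPrime _
      refine hQeq _ _ ?_
      rw [← hxQ]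
      ext t
      rw [Ideal.mem_comap, RingHom.mem_ker]
      show residue _ (β (algebraMap Γ(X, V) B t)) = 0 ↔ _
      rw [IsLocalization.lift_eq, residue_eq_zero_iff,
        IsLocalization.AtPrime.to_map_mem_maximal_iff (X.presheaf.stalk x) (hV.primeIdealOf ⟨x, hx⟩).asIdeal]
    have hγs : Function.Surjective γ := fun z => by
      obtain ⟨z, rfl⟩ := residue_surjective z
      obtain ⟨t, s, rfl⟩ := IsLocalization.exists_mk'_eq (hV.primeIdealOf ⟨x, hx⟩).asIdeal.primeCompl z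
      have hs : algebraMap Γ(X, V) B s ∉ Q := fun h => s.2 (hxQ.ge h)
      obtain ⟨e, he⟩ := hQ.exists_inv hs
      obtain ⟨i, hi, he⟩ := he
      refine ⟨e * algebraMap Γ(X, V) B t, ?_⟩
      have h1 : γ e * residue _ (algebraMap Γ(X, V) (X.presheaf.stalk x) s) = 1 := by
        have h2 := congrArg γ he
        rw [map_add, map_mul, map_one, show γ i = 0 from (RingHom.mem_ker).1 (hγker.ge hi), add_zero] at h2
        rw [← h2]
        exact congrArg (γ e * ·) (congrArg (residue _) (IsLocalization.lift_eq hu _)).symm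
      show γ (e * algebraMap Γ(X, V) B t) = _
      rw [map_mul, show γ (algebraMap Γ(X, V) B t) = residue _ (algebraMap Γ(X, V) (X.presheaf.stalk x) t) from
        congrArg (residue _) (IsLocalization.lift_eq hu t),
        ← IsLocalization.mk'_spec (X.presheaf.stalk x) t s, map_mul, mul_comm (γ e), mul_assoc,
        mul_comm (residue _ (algebraMap _ _ _)), h1, mul_one]
    have hγA : ∀ a, γ (algebraMap A B a) = (f.residueFieldMap x).hom (residue A a) := fun a => by
      show residue _ (β (algebraMap A B a)) = _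
      rw [← RingHom.comp_apply β, hβA]
      rfl
    let c := ringExpChar (ResidueField A)
    haveI : ExpChar (Y.residueField (f x)) c := ringExpChar.expChar (ResidueField A)
    let ρ := (f.residueFieldMap x).hom
    show RadAlong A B Q ↔ ρ.IsPurelyInseparable
    letI := ρ.toAlgebra
    rw [show ρ.IsPurelyInseparable ↔ IsPurelyInseparable (Y.residueField (f x)) (X.residueField x) from Iff.rfl,
      isPurelyInseparable_iff_pow_mem (Y.residueField (f x)) c]
    constructor
    · intro h z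
      obtain ⟨t, rfl⟩ := hγs z
      obtain ⟨n, a, ha⟩ := h t
      refine ⟨n, residue A a, ?_⟩
      have h0 : γ (algebraMap A B a) = γ (t ^ c ^ n) := by
        rw [← sub_eq_zero, ← map_sub, ← RingHom.mem_ker, hγker, ← neg_sub]
        exact Q.neg_mem ha
      rw [hγA, map_pow] at h0
      exact h0
    · intro h t
      obtain ⟨n, w, hw⟩ := h (γ t)
      obtain ⟨a, rfl⟩ := residue_surjective (R := A) w
      refine ⟨n, a, ?_⟩
      rw [← hγker, RingHom.mem_ker, map_sub, map_pow, hγA, sub_eq_zero]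
      exact hw.symm
  have hV' : ∀ x : X, f x = y → x ∈ V := fun x hx => show f x ∈ W from hx ▸ hyW
  constructor
  · intro h
    obtain ⟨h1, h2, h3⟩ := radical_of_branch_birational A B (IntBC.branch_of_isGeomUnibranch h) hmaps hinj hres
    refine ⟨⟨fun x x' hx hx' => ?_, fun x hx => ?_⟩, fun x hx => ?_⟩
    · obtain ⟨Q, hQ, hxQ⟩ := hptmax x (hV' x hx) hx
      obtain ⟨Q', hQ', hxQ'⟩ := hptmax x' (hV' x' hx') hx'
      exact hinjV _ _ (hV' x hx) (hV' x' hx') (by rw [hxQ, hxQ', h1 Q Q' hQ hQ'])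
    · obtain ⟨Q, hQ, hxQ⟩ := hptmax x (hV' x hx) hx
      exact (hradiff Q hQ x _ hx hxQ).1 (h2 Q hQ)
    · obtain ⟨Q, hQ, hxQ⟩ := hptmax x (hV' x hx) hx
      haveI := hQ
      obtain ⟨e⟩ := hloc Q x _ hxQ
      exact IntBC.isGeomUnibranch_of_branch (IntBC.Branch.of_ringEquiv e (h3 Q))
  · rintro ⟨⟨h1, h2⟩, h3⟩
    refine IntBC.isGeomUnibranch_of_branch (branch_of_radical_birational A B hsurj (fun Q Q' hQ hQ' => ?_)
      (fun Q hQ => ?_) fun Q hQ => ?_)
    · obtain ⟨x, hxy, hx, hxQ⟩ := hmaxpt Q hQ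
      obtain ⟨x', hxy', hx', hxQ'⟩ := hmaxpt Q' hQ'
      obtain rfl := h1 x x' hxy hxy'
      exact hQeq _ _ (hxQ.symm.trans hxQ')
    · obtain ⟨x, hxy, hx, hxQ⟩ := hmaxpt Q hQ
      exact (hradiff Q hQ x hx hxy hxQ).2 (h2 x hxy)
    · obtain ⟨x, hxy, hx, hxQ⟩ := hmaxpt Q hQ
      obtain ⟨e⟩ := hloc Q x hx hxQ
      exact IntBC.Branch.of_ringEquiv e.symm (IntBC.branch_of_isGeomUnibranch (h3 x hxy))

end Groth.Agent.RadPtLib
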