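import Groth.Agent.IntBC.UnibranchDescent
import Mathlib.RingTheory.Ideal.MinimalPrime.Basic

/-!
# Geometrically unibranch local rings and integral birational algebras
-/

noncomputable section

namespace Groth.Agent.RadPtLib

universe u

open IsLocalRing Groth.Agent.IntBC

set_option linter.style.haveILetI false

variable (A : Type u) [CommRing A] [IsLocalRing A] (B : Type u) [CommRing B] [Algebra A B] [Algebra.IsIntegral A B]

/-- Purely inseparable residue extension at a prime, written on representatives. -/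
def RadAlong (Q : Ideal B) : Prop :=
  ∀ t : B, ∃ (n : ℕ) (a : A), t ^ (ringExpChar (ResidueField A)) ^ n - algebraMap A B a ∈ Q

theorem branch_of_radical_birational (hsurj : ∀ p ∈ minimalPrimes A, ∃ P : Ideal B, P.IsPrime ∧ P.comap (algebraMap A B) = p)
    (huniq : ∀ Q Q' : Ideal B, Q.IsMaximal → Q'.IsMaximal → Q = Q') (hrad : ∀ Q : Ideal B, Q.IsMaximal → RadAlong A B Q)
    (hT : ∀ (Q : Ideal B) [Q.IsMaximal], Branch (Localization.AtPrime Q)) : Branch A := by
  have hker : ∀ x : A, algebraMap A B x = 0 → IsNilpotent x := fun x hx => by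
    rw [← mem_nilradical, nilradical, Ideal.zero_eq_bot, ← Ideal.sInf_minimalPrimes]
    refine Submodule.mem_sInf.2 fun p hp => ?_
    obtain ⟨P, -, rfl⟩ := hsurj p hp
    rw [Ideal.mem_comap, hx]
    exact zero_mem _
  have hmax : ∀ Q : Ideal B, Q.IsPrime → Q.comap (algebraMap A B) = maximalIdeal A → Q.IsMaximal := fun Q hQ h => by
    haveI := hQ
    exact Ideal.isMaximal_of_isIntegral_of_isMaximal_comap _ (h ▸ maximalIdeal.isMaximal A)
  have h := branch_of_radicial (R := A) (T := B) hker (maximalIdeal A) (ringExpChar (ResidueField A))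
    (fun Q hQ h => by
      haveI := hQ
      let χ : ResidueField A →+* B ⧸ Q := Ideal.Quotient.lift _ ((Ideal.Quotient.mk Q).comp (algebraMap A B))
        fun a ha => Ideal.Quotient.eq_zero_iff_mem.2 (h.ge ha)
      haveI : ExpChar (ResidueField A) (ringExpChar (ResidueField A)) := ringExpChar.expChar _
      exact (RingHom.expChar_iff χ χ.injective _).1 inferInstance)
    (fun t => by
      by_cases he : ∃ Q : Ideal B, Q.IsMaximal
      · obtain ⟨Q, hQ⟩ := he
        obtain ⟨n, a, ha⟩ := hrad Q hQ t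
        exact ⟨n, a, fun Q' hQ' h' => huniq Q Q' hQ (hmax Q' hQ' h') ▸ ha⟩
      · exact ⟨0, 0, fun Q' hQ' h' => (he ⟨Q', hmax Q' hQ' h'⟩).elim⟩)
    (fun Q _ h => by haveI := hmax Q ‹_› h; exact hT Q)
  exact Branch.of_ringEquiv (IsLocalization.atUnits A (maximalIdeal A).primeCompl
    (S := Localization.AtPrime (maximalIdeal A)) fun s hs => notMem_maximalIdeal.1 hs).symm.toRingEquiv h

theorem radical_of_branch_birational (h : Branch A)
    (hmaps : ∀ P ∈ minimalPrimes B, P.comap (algebraMap A B) ∈ minimalPrimes A)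
    (hinj : Set.InjOn (Ideal.comap (algebraMap A B)) (minimalPrimes B))
    (hres : ∀ P ∈ minimalPrimes B, ∀ b : B, ∃ a a₀ : A,
      algebraMap A B a ∉ P ∧ algebraMap A B a * b - algebraMap A B a₀ ∈ P) :
    (∀ Q Q' : Ideal B, Q.IsMaximal → Q'.IsMaximal → Q = Q') ∧ (∀ Q : Ideal B, Q.IsMaximal → RadAlong A B Q) ∧
      ∀ (Q : Ideal B) [Q.IsMaximal], Branch (Localization.AtPrime Q) := by
  by_cases hex : ∃ Q : Ideal B, Q.IsMaximal
  swap
  · exact ⟨fun Q _ hQ => (hex ⟨Q, hQ⟩).elim, fun Q hQ => (hex ⟨Q, hQ⟩).elim, fun Q hQ => (hex ⟨Q, hQ⟩).elim⟩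
  obtain ⟨D, _, _, _, _, hD, hker, hint, hins⟩ := h
  haveI := hD
  haveI := hint
  haveI : Nontrivial B := by
    obtain ⟨Q, hQ⟩ := hex
    exact nontrivial_of_ne 0 1 fun e => hQ.ne_top ((Ideal.eq_top_iff_one _).2 (e ▸ zero_mem _))
  let jA := algebraMap A D
  have hAmin : ∀ p ∈ minimalPrimes A, p = RingHom.ker jA := fun p hp => by
    haveI := hp.1.1
    haveI := RingHom.ker_isPrime jA
    have hle : RingHom.ker jA ≤ p := fun a ha => nilradical_le_prime p (mem_nilradical.2 (hker a ha))
    exact le_antisymm (hp.2 ⟨inferInstance, bot_le⟩ hle) hle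
  obtain ⟨M, hM⟩ := hex
  obtain ⟨P₀, hP₀, -⟩ := Ideal.exists_minimalPrimes_le (I := (⊥ : Ideal B)) (J := M) bot_le
  haveI := hP₀.1.1
  have hP₀k : P₀.comap (algebraMap A B) = RingHom.ker jA := hAmin _ (hmaps _ hP₀)
  have hone : ∀ P ∈ minimalPrimes B, P = P₀ := fun P hP =>
    hinj hP hP₀ ((hAmin _ (hmaps _ hP)).trans hP₀k.symm)
  have hnil : nilradical B = P₀ := by
    rw [nilradical, Ideal.zero_eq_bot, ← Ideal.sInf_minimalPrimes]
    exact le_antisymm (sInf_le hP₀) (le_sInf fun P hP => (hone P hP).ge)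
  let L := FractionRing D
  let j : A →+* L := (algebraMap D L).comp jA
  have hjker : ∀ a, j a = 0 ↔ algebraMap A B a ∈ P₀ := fun a => by
    rw [← Ideal.mem_comap, hP₀k, RingHom.mem_ker]
    exact map_eq_zero_iff _ (IsFractionRing.injective D L)
  choose al al₀ hal hal₀ using hres P₀ hP₀
  let φ : B → L := fun b => j (al₀ b) / j (al b)
  have hval : ∀ {b : B} {a a₀ : A}, algebraMap A B a ∉ P₀ → algebraMap A B a * b - algebraMap A B a₀ ∈ P₀ →
      φ b = j a₀ / j a := fun {b a a₀} ha h => by
    have h1 : j (al₀ b) * j a = j a₀ * j (al b) := by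
      rw [← map_mul, ← map_mul, ← sub_eq_zero, ← map_sub, hjker, map_sub, map_mul, map_mul]
      have h' := sub_mem (Ideal.mul_mem_left _ (algebraMap A B (al b)) h) (Ideal.mul_mem_left _ (algebraMap A B a) (hal₀ b))
      convert h' using 1
      ring
    exact (div_eq_div_iff (fun e => hal b ((hjker _).1 e)) (fun e => ha ((hjker _).1 e))).2 h1
  have h1P : algebraMap A B (1 : A) ∉ P₀ := by
    rw [map_one]
    exact fun e => hP₀.1.1.ne_top ((Ideal.eq_top_iff_one _).2 e)
  have hφA : ∀ a : A, φ (algebraMap A B a) = j a := fun a => by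
    rw [hval (a := 1) (a₀ := a) h1P (by simp), map_one, div_one]
  have hne : ∀ x, j (al x) ≠ 0 := fun x e => hal x ((hjker _).1 e)
  have hprod : ∀ x y, algebraMap A B (al x * al y) ∉ P₀ := fun x y e => by
    rw [map_mul] at e
    exact (hP₀.1.1.mem_or_mem e).elim (hal x) (hal y)
  let φh : B →+* L :=
    { toFun := φ
      map_one' := by rw [← map_one (algebraMap A B), hφA, map_one]
      map_zero' := by rw [← map_zero (algebraMap A B), hφA, map_zero]
      map_mul' := fun x y => by
        rw [hval (a := al x * al y) (a₀ := al₀ x * al₀ y) (hprod x y) (by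
          convert add_mem (Ideal.mul_mem_left _ (algebraMap A B (al y) * y) (hal₀ x))
            (Ideal.mul_mem_left _ (algebraMap A B (al₀ x)) (hal₀ y)) using 1
          rw [map_mul, map_mul]; ring)]
        simp only [φ, map_mul, div_mul_div_comm]
      map_add' := fun x y => by
        rw [hval (a := al x * al y) (a₀ := al y * al₀ x + al x * al₀ y) (hprod x y) (by
          convert add_mem (Ideal.mul_mem_left _ (algebraMap A B (al y)) (hal₀ x))
            (Ideal.mul_mem_left _ (algebraMap A B (al x)) (hal₀ y)) using 1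
          rw [map_mul, map_add, map_mul, map_mul]; ring)]
        simp only [φ, map_mul, map_add]
        rw [div_add_div _ _ (hne x) (hne y)]
        ring }
  have hmem : ∀ b, ∃ d : D, algebraMap D L d = φh b := fun b => by
    refine IsIntegrallyClosed.isIntegral_iff.mp ?_
    obtain ⟨P, hP, he⟩ := Algebra.IsIntegral.isIntegral (R := A) b
    refine ⟨P.map jA, hP.map _, ?_⟩
    rw [Polynomial.eval₂_map, show (algebraMap D L).comp jA = φh.comp (algebraMap A B) from
      RingHom.ext fun a => (hφA a).symm, ← Polynomial.hom_eval₂, he, map_zero]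
  choose ψ₀ hψ₀ using hmem
  have hL := IsFractionRing.injective D L
  let ψ : B →+* D :=
    { toFun := ψ₀
      map_one' := hL (by rw [hψ₀, map_one, map_one])
      map_zero' := hL (by rw [hψ₀, map_zero, map_zero])
      map_mul' := fun x y => hL (by rw [hψ₀, map_mul, map_mul, hψ₀, hψ₀])
      map_add' := fun x y => hL (by rw [hψ₀, map_add, map_add, hψ₀, hψ₀]) }
  have hψA : ∀ a, ψ (algebraMap A B a) = jA a := fun a => hL ((hψ₀ _).trans (hφA a))
  have hψker : RingHom.ker ψ = P₀ := by
    ext b
    rw [RingHom.mem_ker, ← map_eq_zero_iff _ hL]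
    change algebraMap D L (ψ₀ b) = 0 ↔ _
    rw [hψ₀]
    change j (al₀ b) / j (al b) = 0 ↔ _
    rw [div_eq_zero_iff, or_iff_left (hne b), hjker]
    constructor
    · intro h0
      have := add_mem (hal₀ b) h0
      rw [sub_add_cancel] at this
      exact (hP₀.1.1.mem_or_mem this).resolve_left (hal b)
    · intro hb
      have := sub_mem (Ideal.mul_mem_left _ (algebraMap A B (al b)) hb) (hal₀ b)
      rwa [sub_sub_cancel] at this
  letI : Algebra B D := ψ.toAlgebra
  haveI : IsScalarTower A B D := IsScalarTower.of_algebraMap_eq fun a => (hψA a).symm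
  haveI : Algebra.IsIntegral B D := ⟨fun d => (Algebra.IsIntegral.isIntegral (R := A) d).tower_top⟩
  have hQ : ∀ Q : Ideal B, Q.IsMaximal → Q = (maximalIdeal D).comap ψ := fun Q hQ => by
    haveI := hQ
    obtain ⟨P, hP, hPle⟩ := Ideal.exists_minimalPrimes_le (I := (⊥ : Ideal B)) (J := Q) bot_le
    obtain ⟨Q', -, hQ', he⟩ := Ideal.exists_ideal_over_prime_of_isIntegral Q (⊥ : Ideal D)
      (fun x hx => hPle (hone P hP ▸ hψker.le hx))
    haveI : Q'.IsMaximal := by
      haveI := hQ'
      refine Ideal.isMaximal_of_isIntegral_of_isMaximal_comap (R := A) _ ?_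
      rw [IsScalarTower.algebraMap_eq A B D, ← Ideal.comap_comap, he]
      exact Ideal.isMaximal_comap_of_isIntegral_of_isMaximal Q
    rw [← IsLocalRing.eq_maximalIdeal ‹Q'.IsMaximal›]
    exact he.symm
  refine ⟨fun Q Q' h h' => (hQ Q h).trans (hQ Q' h').symm, fun Q hQm t => ?_, fun Q hQm => ?_⟩
  · obtain ⟨n, a, ha⟩ := hins (ψ t)
    haveI hAD : IsLocalHom jA := ⟨fun a ha => by
      by_contra hna
      have hA' : ((maximalIdeal D).comap jA) = maximalIdeal A :=
        IsLocalRing.eq_maximalIdeal (Ideal.isMaximal_comap_of_isIntegral_of_isMaximal (maximalIdeal D))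
      exact (notMem_maximalIdeal.2 ha) (hA'.ge ((mem_maximalIdeal a).2 hna) : jA a ∈ maximalIdeal D)⟩
    haveI : ExpChar (ResidueField A) (ringExpChar (ResidueField A)) := ringExpChar.expChar _
    haveI : ExpChar (ResidueField D) (ringExpChar (ResidueField A)) :=
      (RingHom.expChar_iff (ResidueField.map jA) (RingHom.injective _) _).1 inferInstance
    rw [ringExpChar.eq (ResidueField D) (ringExpChar (ResidueField A))] at ha
    refine ⟨n, a, ?_⟩
    rw [hQ Q hQm, Ideal.mem_comap, map_sub, map_pow, hψA]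
    exact ha
  · haveI : IsLocalRing B := IsLocalRing.of_unique_max_ideal ⟨Q, hQm, fun Q' hQ' => (hQ Q' hQ').trans (hQ Q hQm).symm⟩
    have hb : Branch B := ⟨D, inferInstance, inferInstance, inferInstance, ψ.toAlgebra, hD,
      fun b hb => mem_nilradical.1 (hnil.ge (hψker.le hb)), inferInstance, fun d => by
        obtain ⟨n, a, ha⟩ := hins d
        exact ⟨n, algebraMap A B a, by rwa [show algebraMap B D (algebraMap A B a) = jA a from hψA a]⟩⟩
    exact Branch.of_ringEquiv (IsLocalization.atUnits B Q.primeCompl (S := Localization.AtPrime Q) fun s hs => by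
      exact notMem_maximalIdeal.1 fun hm => hs ((IsLocalRing.eq_maximalIdeal hQm).ge hm)).toRingEquiv hb

end Groth.Agent.RadPtLib
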